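import Groth.Agent.Lib.SheafCoh.ModAcyclic
import Groth.Prelude.Def_ModSite
import Mathlib.Algebra.Category.ModuleCat.ChangeOfRings
import Mathlib.Algebra.Category.ModuleCat.Sheaf.Quasicoherent
import Mathlib.Algebra.Category.ModuleCat.Presheaf.Limits
import Mathlib.Algebra.Category.ModuleCat.Presheaf.Colimits
import Mathlib.Algebra.Category.ModuleCat.Presheaf.EpiMono
import Mathlib.Algebra.Category.ModuleCat.Descent
import Mathlib.RingTheory.RingHom.Flat
import Mathlib.Algebra.Homology.ShortComplex.ShortExact

/-! # Modules over presheaves of rings: sections and base change along restriction maps -/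

set_option autoImplicit false
set_option linter.all false
set_option maxHeartbeats 800000
set_option backward.isDefEq.respectTransparency false
set_option backward.isDefEq.respectTransparency.types false
universe u

open CategoryTheory CategoryTheory.Limits Opposite

noncomputable section

namespace GrothLib.Chaotic25

variable {C : Type u} [SmallCategory C] {J : GrothendieckTopology C} (O : Sheaf J CommRingCat.{u})

/-- Only the maximal sieves cover. -/
def IsChaotic (J : GrothendieckTopology C) : Prop := ∀ ⦃V : C⦄ ⦃S : Sieve V⦄, S ∈ J V → S = ⊤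

omit [SmallCategory C] in
theorem isChaotic_bot {C : Type u} [SmallCategory C] : IsChaotic (⊥ : GrothendieckTopology C) :=
  fun V S hS => GrothendieckTopology.trivial_covering.1 hS

theorem IsChaotic.over (hJ : IsChaotic J) (X : C) : IsChaotic (J.over X) := fun P S hS => by
  rw [GrothendieckTopology.mem_over_iff] at hS
  exact (Sieve.overEquiv P).injective ((hJ hS).trans (OrderIso.map_top (Sieve.overEquiv P)).symm)

theorem IsChaotic.isSheaf (hJ : IsChaotic J) {A : Type*} [Category A] (P : Cᵒᵖ ⥤ A) :
    Presheaf.IsSheaf J P := fun E V S hS => by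
  rw [hJ hS]
  exact Presieve.isSheafFor_top_sieve _

/-- Sections over an object. -/
def ev (V : C) : ModSite.Mod O ⥤ ModuleCat.{u} (O.obj.obj (op V)) :=
  SheafOfModules.forget (ModSite.ringSh O) ⋙ PresheafOfModules.evaluation _ (op V)

theorem ev_map_apply (V : C) {M N : ModSite.Mod O} (f : M ⟶ N) (x : M.val.obj (op V)) :
    (ev O V).map f x = f.val.app (op V) x := rfl

instance additive_ev (V : C) : (ev O V).Additive := ⟨fun {M N f g} => rfl⟩

variable (hJ : IsChaotic J)

include hJ in
theorem isEquivalence_forget : (SheafOfModules.forget.{u} (ModSite.ringSh O)).IsEquivalence :=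
  { faithful := inferInstance
    full := inferInstance
    essSurj := ⟨fun P => ⟨⟨P, hJ.isSheaf _⟩, ⟨Iso.refl _⟩⟩⟩ }

include hJ in
theorem preservesColimits_ev (V : C) : PreservesColimitsOfSize.{u, u} (ev O V) := by
  have := isEquivalence_forget O hJ
  have : PreservesColimitsOfSize.{u, u} (PresheafOfModules.evaluation.{u} (ModSite.ringSh O).obj (op V)) := inferInstance
  exact comp_preservesColimits _ _

include hJ in
theorem preservesColimits_ev0 (V : C) : PreservesColimitsOfSize.{0, 0} (ev O V) :=
  have := preservesColimits_ev O hJ V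
  preservesColimitsOfSize_shrink.{0, u, 0, u} _

include hJ in
theorem preservesFiniteLimits_ev (V : C) : PreservesFiniteLimits (ev O V) := by
  have := isEquivalence_forget O hJ
  have : PreservesFiniteLimits (SheafOfModules.forget.{u} (ModSite.ringSh O)) := inferInstance
  have : PreservesFiniteLimits (PresheafOfModules.evaluation.{u} (ModSite.ringSh O).obj (op V)) := ⟨fun _ _ _ => inferInstance⟩
  exact comp_preservesFiniteLimits _ _

include hJ in
theorem preservesHomology_ev (V : C) : (ev O V).PreservesHomology := by
  have := preservesFiniteLimits_ev O hJ V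
  have := preservesColimits_ev0 O hJ V
  have : PreservesFiniteColimits (ev O V) := PreservesColimitsOfSize.preservesFiniteColimits _
  exact Functor.preservesHomologyOfExact _


variable {U V : C} (g : U ⟶ V)

/-- The restriction map of sections. -/
def resNat : ev O V ⟶ ev O U ⋙ ModuleCat.restrictScalars (O.obj.map g.op).hom where
  app F := F.val.map g.op
  naturality {F G} a := (a.val.naturality g.op).symm

/-- The base change map of sections. -/
def theta : ev O V ⋙ ModuleCat.extendScalars (O.obj.map g.op).hom ⟶ ev O U where
  app F := ((ModuleCat.extendRestrictScalarsAdj (O.obj.map g.op).hom).homEquiv _ _).symm ((resNat O g).app F)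
  naturality {F G} a := by
    refine ((ModuleCat.extendRestrictScalarsAdj _).homEquiv_naturality_left_symm ((ev O V).map a) _).symm.trans ?_
    refine Eq.trans ?_ ((ModuleCat.extendRestrictScalarsAdj _).homEquiv_naturality_right_symm _ ((ev O U).map a))
    exact congrArg _ ((resNat O g).naturality a)

theorem theta_tmul (F : ModSite.Mod O) (r : O.obj.obj (op U)) (m : F.val.obj (op V)) :
    letI := (O.obj.map g.op).hom.toAlgebra
    (theta O g).app F (r ⊗ₜ[O.obj.obj (op V)] m : TensorProduct (O.obj.obj (op V)) (O.obj.obj (op U)) (F.val.obj (op V))) =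
      HSMul.hSMul (α := O.obj.obj (op U)) (β := F.val.obj (op U)) r (F.val.map g.op m) := rfl

/-- Base change of sections is bijective along all restriction maps. -/
def IsGood (F : ModSite.Mod O) : Prop := ∀ ⦃U V : C⦄ (g : U ⟶ V), IsIso ((theta O g).app F)

theorem isGood_unit : IsGood O (ModSite.unit O) := fun U V g => by
  let := (O.obj.map g.op).hom.toAlgebra
  let e := (TensorProduct.AlgebraTensorModule.rid (O.obj.obj (op V)) (O.obj.obj (op U)) (O.obj.obj (op U)))
  rw [ConcreteCategory.isIso_iff_bijective]
  have he : ∀ z, (theta O g).app (ModSite.unit O) z = e z := fun z => by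
    induction z using TensorProduct.induction_on with
    | zero => exact (map_zero _).trans (map_zero e).symm
    | tmul r m =>
      refine (theta_tmul O g (ModSite.unit O) r m).trans ?_
      rw [TensorProduct.AlgebraTensorModule.rid_tmul, Algebra.smul_def, mul_comm]
      rfl
    | add a b ha hb => exact (map_add _ a b).trans ((congrArg₂ (· + ·) ha hb).trans (map_add e a b).symm)
  refine ⟨fun a b hab => e.injective ((he a).symm.trans (hab.trans (he b))), fun y => ?_⟩
  obtain ⟨z, hz⟩ := e.surjective y
  exact ⟨z, (he z).trans hz⟩

include hJ in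
theorem IsGood.colimit {K : Type u} [SmallCategory K] {D : K ⥤ ModSite.Mod O} {c : Cocone D} (hc : IsColimit c)
    (h : ∀ k, IsGood O (D.obj k)) : IsGood O c.pt := fun U V g => by
  have := preservesColimits_ev O hJ V
  have := preservesColimits_ev O hJ U
  have : (ModuleCat.extendScalars.{u, u, u} (O.obj.map g.op).hom).IsLeftAdjoint :=
    (ModuleCat.extendRestrictScalarsAdj _).isLeftAdjoint
  let h₁ := isColimitOfPreserves (ev O V ⋙ ModuleCat.extendScalars (O.obj.map g.op).hom) hc
  let h₂ := isColimitOfPreserves (ev O U) hc
  have : ∀ k, IsIso ((Functor.whiskerLeft D (theta O g)).app k) := fun k => h k g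
  have : IsIso (Functor.whiskerLeft D (theta O g)) := NatIso.isIso_of_isIso_app _
  have e : (theta O g).app c.pt =
      (h₁.coconePointsIsoOfNatIso h₂ (asIso (Functor.whiskerLeft D (theta O g)))).hom :=
    h₁.hom_ext fun k => by
      rw [IsColimit.comp_coconePointsIsoOfNatIso_hom]
      exact (theta O g).naturality _
  rw [e]
  infer_instance

theorem IsGood.of_iso {F G : ModSite.Mod O} (h : IsGood O F) (e : F ≅ G) : IsGood O G := fun U V g => by
  have := h g
  exact (NatIso.isIso_map_iff' (theta O g) e).1 this
where
  NatIso.isIso_map_iff' {A B : Type _} [Category A] [Category B] {P Q : A ⥤ B} (τ : P ⟶ Q) {X Y : A} (e : X ≅ Y) :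
      IsIso (τ.app X) ↔ IsIso (τ.app Y) :=
    (MorphismProperty.isomorphisms B).arrow_mk_iso_iff
      (Arrow.isoMk (P.mapIso e) (Q.mapIso e) (τ.naturality e.hom))

include hJ in
theorem isGood_free (I : Type u) : IsGood O (SheafOfModules.free (R := ModSite.ringSh O) I) :=
  IsGood.colimit O hJ (colimit.isColimit (Discrete.functor fun _ : I => ModSite.unit O)) fun _ => isGood_unit O

include hJ in
theorem isGood_cokernel {F G : ModSite.Mod O} (a : F ⟶ G) (hF : IsGood O F) (hG : IsGood O G) :
    IsGood O (cokernel a) := fun U V g => by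
  have := preservesColimits_ev0 O hJ V
  have := preservesColimits_ev0 O hJ U
  have : (ModuleCat.extendScalars.{u, u, u} (O.obj.map g.op).hom).IsLeftAdjoint :=
    (ModuleCat.extendRestrictScalarsAdj _).isLeftAdjoint
  have : PreservesColimitsOfSize.{0, 0} (ev O V ⋙ ModuleCat.extendScalars (O.obj.map g.op).hom) := inferInstance
  let c := Cofork.ofπ (cokernel.π a) (by simp : a ≫ cokernel.π a = 0 ≫ cokernel.π a)
  let h₁ := isColimitOfPreserves (ev O V ⋙ ModuleCat.extendScalars (O.obj.map g.op).hom) (cokernelIsCokernel a)
  let h₂ := isColimitOfPreserves (ev O U) (cokernelIsCokernel a)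
  have : ∀ k, IsIso ((Functor.whiskerLeft (parallelPair a 0) (theta O g)).app k) := fun k => by
    cases k
    · exact hF g
    · exact hG g
  have : IsIso (Functor.whiskerLeft (parallelPair a 0) (theta O g)) := NatIso.isIso_of_isIso_app _
  have e : (theta O g).app (cokernel a) =
      (h₁.coconePointsIsoOfNatIso h₂ (asIso (Functor.whiskerLeft (parallelPair a 0) (theta O g)))).hom :=
    h₁.hom_ext fun k => by
      rw [IsColimit.comp_coconePointsIsoOfNatIso_hom]
      exact (theta O g).naturality _
  rw [e]
  infer_instance

include hJ in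
theorem isGood_of_presentation {F : ModSite.Mod O}
    (p : SheafOfModules.Presentation (R := ModSite.ringSh O) F) : IsGood O F :=
  (isGood_cokernel O hJ _ (isGood_free O hJ _) (isGood_free O hJ _)).of_iso O
    ((cokernelIsCokernel _).coconePointUniqueUpToIso p.isColimit)

include hJ in
theorem isGood_kernel {F G : ModSite.Mod O} (a : F ⟶ G) (hF : IsGood O F) (hG : IsGood O G)
    (hO : ∀ (U V : C) (g : U ⟶ V), (O.obj.map g.op).hom.Flat) : IsGood O (kernel a) := fun U V g => by
  have := preservesFiniteLimits_ev O hJ V
  have := preservesFiniteLimits_ev O hJ U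
  have : PreservesFiniteLimits (ModuleCat.extendScalars.{u, u, u} (O.obj.map g.op).hom) :=
    preservesFiniteLimits_extendScalars (hO U V g)
  have : PreservesFiniteLimits (ev O V ⋙ ModuleCat.extendScalars (O.obj.map g.op).hom) := comp_preservesFiniteLimits _ _
  let h₁ := isLimitOfPreserves (ev O V ⋙ ModuleCat.extendScalars (O.obj.map g.op).hom) (kernelIsKernel a)
  let h₂ := isLimitOfPreserves (ev O U) (kernelIsKernel a)
  have : ∀ k, IsIso ((Functor.whiskerLeft (parallelPair a 0) (theta O g)).app k) := fun k => by
    cases k
    · exact hF g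
    · exact hG g
  have : IsIso (Functor.whiskerLeft (parallelPair a 0) (theta O g)) := NatIso.isIso_of_isIso_app _
  have e : (theta O g).app (kernel a) =
      (h₁.conePointsIsoOfNatIso h₂ (asIso (Functor.whiskerLeft (parallelPair a 0) (theta O g)))).hom :=
    h₂.hom_ext fun k => by
      rw [IsLimit.conePointsIsoOfNatIso_hom_comp]
      exact ((theta O g).naturality _).symm
  rw [e]
  infer_instance
where
  preservesFiniteLimits_extendScalars {R S : Type u} [CommRing R] [CommRing S] {f : R →+* S} (hf : f.Flat) :
      PreservesFiniteLimits (ModuleCat.extendScalars.{u, u, u} f) :=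
    ModuleCat.preservesFiniteLimits_extendScalars_of_flat hf

include hJ in
theorem isGood_extension (S : ShortComplex (ModSite.Mod O)) (hS : S.ShortExact) (h₁ : IsGood O S.X₁)
    (h₃ : IsGood O S.X₃) (hO : ∀ (U V : C) (g : U ⟶ V), (O.obj.map g.op).hom.Flat) : IsGood O S.X₂ := fun U V g => by
  have := preservesHomology_ev O hJ V
  have := preservesHomology_ev O hJ U
  have := preservesFiniteLimits_ev O hJ V
  have := preservesFiniteLimits_ev O hJ U
  let P := ev O V ⋙ ModuleCat.extendScalars (O.obj.map g.op).hom
  have : (ModuleCat.extendScalars.{u, u, u} (O.obj.map g.op).hom).IsLeftAdjoint :=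
    (ModuleCat.extendRestrictScalarsAdj _).isLeftAdjoint
  have : PreservesFiniteLimits (ModuleCat.extendScalars.{u, u, u} (O.obj.map g.op).hom) :=
    isGood_kernel.preservesFiniteLimits_extendScalars (hO U V g)
  have := preservesColimits_ev0 O hJ V
  have := preservesColimits_ev0 O hJ U
  have : PreservesColimitsOfSize.{0, 0} P := inferInstance
  have : PreservesFiniteColimits P := PreservesColimitsOfSize.preservesFiniteColimits _
  have : PreservesFiniteLimits P := comp_preservesFiniteLimits _ _
  have : PreservesFiniteColimits (ev O U) := PreservesColimitsOfSize.preservesFiniteColimits _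
  have : P.Additive := Functor.additive_of_preserves_binary_products _
  have : IsIso (S.mapNatTrans (theta O g)).τ₁ := h₁ g
  have : IsIso (S.mapNatTrans (theta O g)).τ₃ := h₃ g
  exact ShortComplex.isIso₂_of_shortExact_of_isIso₁₃
    (S.mapNatTrans (theta O g) : S.map P ⟶ S.map (ev O U))
    (hS.map_of_exact P) (hS.map_of_exact (ev O U))

include hJ in
theorem epi_of_surjective {M N : ModSite.Mod O} (f : M ⟶ N) (h : ∀ V : C, Function.Surjective ((ev O V).map f)) :
    Epi f := by
  have := isEquivalence_forget O hJ
  apply (SheafOfModules.forget (ModSite.ringSh O)).epi_of_epi_map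
  exact PresheafOfModules.epi_of_surjective fun {X} => h X.unop

include hJ in
theorem isIso_of_terminal {T : C} (hT : IsTerminal T) {M N : ModSite.Mod O} (f : M ⟶ N)
    (hM : IsGood O M) (hN : IsGood O N) [IsIso ((ev O T).map f)] : IsIso f := by
  have := isEquivalence_forget O hJ
  have h : ∀ V : C, IsIso ((ev O V).map f) := fun V => by
    have := hM (hT.from V)
    have := hN (hT.from V)
    have : IsIso ((theta O (hT.from V)).app M ≫ (ev O V).map f) := by
      rw [← (theta O (hT.from V)).naturality f]
      simp only [Functor.comp_map]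
      infer_instance
    exact IsIso.of_isIso_comp_left ((theta O (hT.from V)).app M) _
  have hb : ∀ V : C, Function.Bijective ((ev O V).map f) := fun V =>
    (ConcreteCategory.isIso_iff_bijective _).1 (h V)
  have : IsIso ((PresheafOfModules.toPresheaf _).map ((SheafOfModules.forget (ModSite.ringSh O)).map f)) := by
    refine @NatIso.isIso_of_isIso_app _ _ _ _ _ _ _ fun X => ?_
    rw [ConcreteCategory.isIso_iff_bijective]
    exact hb X.unop
  have : IsIso ((SheafOfModules.forget (ModSite.ringSh O)).map f) :=
    isIso_of_reflects_iso _ (PresheafOfModules.toPresheaf _)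
  exact isIso_of_reflects_iso _ (SheafOfModules.forget (ModSite.ringSh O))

/-- A section over a terminal object, as a global section. -/
def secOfTerminal {T : C} (hT : IsTerminal T) (M : ModSite.Mod O) (x : M.val.obj (op T)) : M.sections :=
  PresheafOfModules.sectionsMk (fun X => M.val.map (hT.from X.unop).op x) fun X Y k => by
    rw [← PresheafOfModules.map_comp_apply]
    exact PresheafOfModules.congr_map_apply M.val (Quiver.Hom.unop_inj (hT.hom_ext _ _)) x

theorem surjective_ev_of_generators {T : C} (hT : IsTerminal T) (M : ModSite.Mod O) :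
    Function.Surjective ((ev O T).map (M.freeHomEquiv.symm (secOfTerminal O hT M))) := fun x => by
  let π := M.freeHomEquiv.symm (secOfTerminal O hT M)
  refine ⟨(SheafOfModules.freeSection (R := ModSite.ringSh O) x).val (op T), ?_⟩
  have h := congrArg (fun s : M.sections => s.val (op T))
    ((SheafOfModules.freeHomEquiv_comp_apply (M := SheafOfModules.free _) (N := M) (𝟙 _) π x).symm.trans
      ((congrArg (fun t => M.freeHomEquiv t x) (Category.id_comp π)).trans
        (congrFun (M.freeHomEquiv.apply_symm_apply (secOfTerminal O hT M)) x)))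
  refine Eq.trans ?_ (h.trans ?_)
  · rfl
  · exact (PresheafOfModules.congr_map_apply M.val (congrArg Quiver.Hom.op (hT.hom_ext (hT.from T) (𝟙 T))) x).trans
      (ConcreteCategory.congr_hom (M.val.map_id (op T)) x)

include hJ in
theorem nonempty_presentation {T : C} (hT : IsTerminal T) {F : ModSite.Mod O} (hF : IsGood O F) :
    Nonempty (SheafOfModules.Presentation (R := ModSite.ringSh O) F) := by
  let π := F.freeHomEquiv.symm (secOfTerminal O hT F)
  let K := kernel π
  let ρ := K.freeHomEquiv.symm (secOfTerminal O hT K)
  let a := ρ ≫ kernel.ι π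
  have ha : a ≫ π = 0 := by simp [a]
  let c : cokernel a ⟶ F := cokernel.desc a π ha
  have := preservesHomology_ev O hJ T
  have := preservesColimits_ev0 O hJ T
  have : PreservesFiniteColimits (ev O T) := PreservesColimitsOfSize.preservesFiniteColimits _
  have := preservesFiniteLimits_ev O hJ T
  have : IsIso ((ev O T).map c) := by
    have hπ := surjective_ev_of_generators O hT F
    have hρ := surjective_ev_of_generators O hT K
    have hex : ((ShortComplex.mk _ _ (kernel.condition π)).map (ev O T)).Exact :=
      (ShortComplex.exact_of_f_is_kernel _ (kernelIsKernel π)).map (ev O T)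
    have hcπ : (ev O T).map (cokernel.π a) ≫ (ev O T).map c = (ev O T).map π := by
      rw [← Functor.map_comp, cokernel.π_desc]
    rw [ConcreteCategory.isIso_iff_bijective]
    have hp : Function.Surjective ((ev O T).map (cokernel.π a)) :=
      (ModuleCat.epi_iff_surjective _).1 inferInstance
    refine ⟨fun y y' hy => ?_, fun x => ?_⟩
    · obtain ⟨m, rfl⟩ := hp y
      obtain ⟨m', rfl⟩ := hp y'
      rw [← sub_eq_zero, ← map_sub]
      have h0 : (ev O T).map π (m - m') = 0 := by
        rw [map_sub, ← ConcreteCategory.congr_hom hcπ m, ← ConcreteCategory.congr_hom hcπ m']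
        exact sub_eq_zero.2 hy
      obtain ⟨k, hk⟩ := (ShortComplex.moduleCat_exact_iff _).1 hex _ h0
      obtain ⟨r, rfl⟩ := hρ k
      rw [← hk]
      have h1 : (ev O T).map a ≫ (ev O T).map (cokernel.π a) = 0 := by
        rw [← Functor.map_comp, cokernel.condition, Functor.map_zero]
      refine Eq.trans ?_ (ConcreteCategory.congr_hom h1 r)
      refine congrArg ((ev O T).map (cokernel.π a)) ?_
      exact (ConcreteCategory.congr_hom ((ev O T).map_comp ρ (kernel.ι π)) r).symm
    · obtain ⟨m, rfl⟩ := hπ x
      exact ⟨(ev O T).map (cokernel.π a) m, ConcreteCategory.congr_hom hcπ m⟩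
  have : IsIso c := isIso_of_terminal O hJ hT c (isGood_cokernel O hJ a (isGood_free O hJ _) (isGood_free O hJ _)) hF
  exact ⟨SheafOfModules.presentationOfIsCokernelFree a π ha (IsColimit.ofIsoColimit (cokernelIsCokernel a)
    (Cofork.ext (asIso c) (cokernel.π_desc _ _ _)))⟩

end GrothLib.Chaotic25
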