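import Groth.Agent.Lib.Chaotic25.Basic

set_option autoImplicit false
set_option linter.all false
set_option maxHeartbeats 800000
set_option backward.isDefEq.respectTransparency false
set_option backward.isDefEq.respectTransparency.types false
universe u

open CategoryTheory CategoryTheory.Limits Opposite

noncomputable section

namespace GrothLib.Chaotic25

variable {C : Type u} [SmallCategory C] {J : GrothendieckTopology C} (O : Sheaf J CommRingCat.{u}) (hJ : IsChaotic J)

include hJ in
theorem isQuasicoherent_iff (F : ModSite.Mod O) :
    SheafOfModules.IsQuasicoherent (R := ModSite.ringSh O) F ↔ IsGood O F := by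
  refine ⟨fun h => ?_, fun h => ?_⟩
  · obtain ⟨q⟩ := h.nonempty_quasicoherentData
    intro U V g
    have hq : Sieve.ofObjects q.X V = ⊤ := hJ (q.coversTop V)
    obtain ⟨i, ⟨r⟩⟩ : ∃ i, Nonempty (V ⟶ q.X i) := by
      have : (Sieve.ofObjects q.X V) (𝟙 V) := by rw [hq]; trivial
      exact this
    have hg : IsGood (O.over (q.X i)) (F.over (q.X i)) :=
      isGood_of_presentation (O.over (q.X i)) (hJ.over (q.X i)) (q.presentation i)
    exact hg (Over.homMk g : Over.mk (g ≫ r) ⟶ Over.mk r)
  · let d : SheafOfModules.QuasicoherentData.{u} (R := ModSite.ringSh O) F :=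
      { I := C
        X := id
        coversTop := fun V => GrothendieckTopology.covering_of_eq_top J <| by
          rw [Sieve.ext_iff]
          intro W f
          exact ⟨fun _ => trivial, fun _ => ⟨W, ⟨𝟙 W⟩⟩⟩
        presentation := fun X => (nonempty_presentation (O.over X) (hJ.over X) Over.mkIdTerminal
            (F := F.over X) (fun P Q g => h g.left)).some }
    exact d.isQuasicoherent

end GrothLib.Chaotic25
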